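import Mathlib
import Cfsg.Prelude.Def_OddOrderLocal
import Cfsg.Agent.Lib.Helper11.BenderL
import Cfsg.Agent.Lib.Helper11.BenderP

set_option autoImplicit false

namespace Cfsg.Agent.Lib.Helper1.BG10

open Cfsg Cfsg.Agent.Lib

variable {G : Type*} [Group G] [Finite G]

theorem elemAb_isPGroup {p : ℕ} {B : Subgroup G} (hB : Cfsg.IsElementaryAbelian p B) :
    IsPGroup p B := by
  intro g
  refine ⟨1, ?_⟩
  have := hB.2 g.1 g.2
  apply Subtype.ext
  simpa using this

theorem not_rankLE_one_of_sq {p : ℕ} [hp : Fact p.Prime] {A : Subgroup G}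
    (hA : Cfsg.IsElementaryAbelian p A) (hc : p ^ 2 ≤ Nat.card A) : ¬ Cfsg.RankLE 1 ↥A := by
  intro h
  have h1 := h p hp.out (⊤ : Subgroup A) ?_ ?_
  · have h2 : Nat.card (⊤ : Subgroup A) = Nat.card A := Subgroup.card_top
    rw [h2] at h1
    have : p ^ 1 < p ^ 2 := Nat.pow_lt_pow_right hp.out.one_lt (by norm_num)
    omega
  · exact ⟨⟨fun a b => Subtype.ext (hA.1.is_comm.comm (a : A) (b : A))⟩⟩
  · intro a _
    have := hA.2 a.1 a.2
    apply Subtype.ext
    simpa using this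

omit [Finite G] in
theorem simple_of_min (hG : Cfsg.IsMinSimpleOddOrder G) : IsSimpleGroup G := hG.2.1

theorem normalizer_ne_top (hG : Cfsg.IsMinSimpleOddOrder G) {S : Subgroup G} (h1 : S ≠ ⊥)
    (h2 : S ≠ ⊤) : Subgroup.normalizer (S : Set G) ≠ ⊤ := by
  intro h
  rw [Subgroup.normalizer_eq_top_iff] at h
  have := simple_of_min hG
  rcases IsSimpleGroup.eq_bot_or_eq_top_of_normal S h with h' | h'
  · exact h1 h'
  · exact h2 h'

theorem sigma_of_unique (hG : Cfsg.IsMinSimpleOddOrder G) (M : Subgroup G) (hM : IsCoatom M)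
    (p : ℕ) [hp : Fact p.Prime] (X : Subgroup G) (hXM : X ≤ M) (hXp : IsPGroup p X) (hX1 : X ≠ ⊥)
    (hXu : Cfsg.InUniqueMaximal X) : p ∈ Cfsg.sigma M := by
  have hXp' : IsPGroup p (X.subgroupOf M) := hXp.comap_subtype
  obtain ⟨P, hP⟩ := hXp'.exists_le_sylow
  have hXS : X ≤ (P : Subgroup M).map M.subtype := by
    intro x hx
    exact ⟨⟨x, hXM hx⟩, hP (Subgroup.mem_subgroupOf.mpr hx), rfl⟩
  have hSM : (P : Subgroup M).map M.subtype ≤ M := by
    rintro _ ⟨y, _, rfl⟩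
    exact y.2
  have hS1 : (P : Subgroup M).map M.subtype ≠ ⊥ := by
    intro h
    apply hX1
    rw [eq_bot_iff]
    rw [h] at hXS
    exact hXS
  have hS2 : (P : Subgroup M).map M.subtype ≠ ⊤ := by
    intro h
    apply hM.1
    rw [eq_top_iff, ← h]
    exact hSM
  have hN := normalizer_ne_top hG hS1 hS2
  obtain ⟨M', hM', hNM'⟩ := Helper11.BenderE.exists_coatom_ge _ hN
  have hXM' : X ≤ M' := hXS.trans (Subgroup.le_normalizer.trans hNM')
  obtain ⟨M₀, _, huniq⟩ := hXu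
  have e1 : M' = M₀ := huniq M' ⟨hM', hXM'⟩
  have e2 : M = M₀ := huniq M ⟨hM, hXM⟩
  have e : M' = M := e1.trans e2.symm
  refine ⟨hp.out, ?_, P, e ▸ hNM'⟩
  obtain ⟨x, hx, hx1⟩ : ∃ x ∈ X, x ≠ 1 := by
    by_contra h
    push Not at h
    apply hX1
    rw [eq_bot_iff]
    intro x hx
    exact Subgroup.mem_bot.mpr (h x hx)
  have hcard : p ∣ Nat.card X := by
    obtain ⟨n, hn⟩ := IsPGroup.exists_card_eq hXp
    cases n with
    | zero =>
      exfalso
      have h1 : Nat.card X = 1 := by simpa using hn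
      have := (Subgroup.card_eq_one).mp h1
      exact hX1 this
    | succ n => rw [hn]; exact Dvd.intro_left (p ^ n) rfl
  exact hcard.trans (Subgroup.card_dvd_of_le hXM)

end Cfsg.Agent.Lib.Helper1.BG10
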