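import Mathlib
import Cfsg.Agent.Lib.Helper1.BG10.Basic

set_option autoImplicit false

namespace Cfsg.Agent.Lib.Helper1.BG10

open Cfsg Cfsg.Agent.Lib

variable {G : Type*} [Group G] [Finite G]

theorem elemAb_sq_unique_of_lt (hG : Cfsg.IsMinSimpleOddOrder G) (p : ℕ) [hp : Fact p.Prime]
    (A B : Subgroup G) (hA : Cfsg.IsElementaryAbelian p A) (hAc : Nat.card A = p ^ 2)
    (hB : Cfsg.IsElementaryAbelian p B) (hAB : A ≤ B) (hne : B ≠ A) :
    Cfsg.InUniqueMaximal A := by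
  have hlt : Nat.card A < Nat.card B := by
    by_contra h
    push Not at h
    exact hne (Subgroup.eq_of_le_of_card_ge hAB h).symm
  obtain ⟨n, hn⟩ := IsPGroup.exists_card_eq (elemAb_isPGroup hB)
  have hB3 : p ^ 3 ≤ Nat.card B := by
    rw [hn]
    rw [hAc, hn] at hlt
    have : 2 < n := (Nat.pow_lt_pow_iff_right hp.out.one_lt).mp hlt
    exact Nat.pow_le_pow_right hp.out.pos this
  have hBu := Helper11.BenderL.elemAb3_unique hG p B hB hB3
  have hAC : A ≤ Subgroup.centralizer (B : Set G) := by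
    intro a ha
    rw [Subgroup.mem_centralizer_iff]
    intro b hb
    have := hB.1.is_comm.comm (⟨b, hb⟩ : B) ⟨a, hAB ha⟩
    exact congrArg Subtype.val this
  exact Helper11.BenderE.cent_unique hG B A hBu hAC (not_rankLE_one_of_sq hA (le_of_eq hAc.symm))

theorem elemAb_sq_maximal (hG : Cfsg.IsMinSimpleOddOrder G) (M : Subgroup G) (hM : IsCoatom M)
    (p : ℕ) [hp : Fact p.Prime] (hpσ : p ∉ Cfsg.sigma M)
    (A : Subgroup G) (hAM : A ≤ M) (hA : Cfsg.IsElementaryAbelian p A) (hAc : Nat.card A = p ^ 2)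
    (B : Subgroup G) (hB : Cfsg.IsElementaryAbelian p B) (hAB : A ≤ B) : B = A := by
  by_contra hne
  have hAu := elemAb_sq_unique_of_lt hG p A B hA hAc hB hAB hne
  have hA1 : A ≠ ⊥ := by
    intro h
    rw [h] at hAc
    have h1 : Nat.card (⊥ : Subgroup G) = 1 := Subgroup.card_bot
    rw [h1] at hAc
    have : 1 < p ^ 2 := Nat.one_lt_pow (by norm_num) hp.out.one_lt
    omega
  exact hpσ (sigma_of_unique hG M hM p A hAM (elemAb_isPGroup hA) hA1 hAu)

theorem exists_elemAb_sq_of_not_pRankLE_one (p : ℕ) [hp : Fact p.Prime] (M : Subgroup G)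
    (hr1 : ¬ Cfsg.PRankLE p 1 M) :
    ∃ A : Subgroup G, A ≤ M ∧ Cfsg.IsElementaryAbelian p A ∧ Nat.card A = p ^ 2 := by
  unfold Cfsg.PRankLE at hr1
  push Not at hr1
  obtain ⟨A₀, hc, he, hcard⟩ := hr1
  have hA1 : Cfsg.IsElementaryAbelian p (A₀.map M.subtype) := by
    refine ⟨⟨⟨?_⟩⟩, ?_⟩
    · rintro ⟨_, a, ha, rfl⟩ ⟨_, b, hb, rfl⟩
      apply Subtype.ext
      have := hc.is_comm.comm (⟨a, ha⟩ : A₀) ⟨b, hb⟩
      have h2 := congrArg Subtype.val this
      simp only [Subgroup.coe_mul] at h2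
      simp only [Subgroup.coe_mul, Subgroup.coe_subtype]
      exact_mod_cast congrArg Subtype.val h2
    · rintro _ ⟨a, ha, rfl⟩
      have := he a ha
      have h2 := congrArg Subtype.val this
      simpa using h2
  have hcard' : Nat.card (A₀.map M.subtype) = Nat.card A₀ :=
    Subgroup.card_map_of_injective M.subtype_injective
  obtain ⟨n, hn⟩ := IsPGroup.exists_card_eq (elemAb_isPGroup hA1)
  have h2 : p ^ 2 ≤ Nat.card (A₀.map M.subtype) := by
    rw [hn]
    rw [hcard', ] at hn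
    rw [hn] at hcard
    have : 1 < n := (Nat.pow_lt_pow_iff_right hp.out.one_lt).mp hcard
    exact Nat.pow_le_pow_right hp.out.pos this
  obtain ⟨E, hE, hEe, hEc⟩ := Helper11.BenderP.exists_sq_le p (A₀.map M.subtype) hA1 h2
  refine ⟨E, ?_, hEe, hEc⟩
  intro x hx
  obtain ⟨y, _, rfl⟩ := hE hx
  exact y.2

theorem not_ideal_of_nonsigma (hG : Cfsg.IsMinSimpleOddOrder G) (M : Subgroup G) (hM : IsCoatom M)
    (p : ℕ) [hp : Fact p.Prime] (hpσ : p ∉ Cfsg.sigma M) (hr1 : ¬ Cfsg.PRankLE p 1 M) :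
    ¬ Cfsg.IsIdealPrime p G := by
  intro hid
  obtain ⟨A, hAM, hA, hAc⟩ := exists_elemAb_sq_of_not_pRankLE_one p M hr1
  obtain ⟨P, hP⟩ := (elemAb_isPGroup hA).exists_le_sylow
  obtain ⟨B, _, hBe, hlt⟩ := hid.2.2 P A hP hA hAc
  have := elemAb_sq_maximal hG M hM p hpσ A hAM hA hAc B hBe hlt.le
  exact hlt.ne this.symm

end Cfsg.Agent.Lib.Helper1.BG10
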