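import Mathlib
import Cfsg.Agent.Lib.Helper1.BG10.TenFive
import Cfsg.Agent.Lib.Helper1.Nilp
import Cfsg.Agent.Lib.Helper5.ElemAb
import Cfsg.Agent.Lib.Helper10.SubgroupBasic
import Cfsg.Agent.Lib.Helper11.BenderN

set_option autoImplicit false

namespace Cfsg.Agent.Lib.Helper1.BG10

open Cfsg Cfsg.Agent.Lib

variable {G : Type*} [Group G] [Finite G]

omit [Finite G] in
theorem pRankLE_card_le {p k : ℕ} {M : Subgroup G} (h : Cfsg.PRankLE p k M) {A : Subgroup G}
    (hAM : A ≤ M) (hA : Cfsg.IsElementaryAbelian p A) : Nat.card A ≤ p ^ k := by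
  have h1 := Helper5.elemAb_comap_of_injective M.subtype M.subtype_injective hA
  have h2 := h (A.subgroupOf M) h1.1 h1.2
  rwa [Helper5.card_subgroupOf_of_le hAM] at h2

theorem exists_sylow_map_ge (p : ℕ) [hp : Fact p.Prime] (M X : Subgroup G) (hXM : X ≤ M)
    (hXp : IsPGroup p X) : ∃ P : Sylow p M, X ≤ (P : Subgroup M).map M.subtype := by
  have hXp' : IsPGroup p (X.subgroupOf M) := hXp.comap_subtype
  obtain ⟨P, hP⟩ := hXp'.exists_le_sylow
  refine ⟨P, ?_⟩
  intro x hx
  exact ⟨⟨x, hXM hx⟩, hP (Subgroup.mem_subgroupOf.mpr hx), rfl⟩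

theorem prime_ne_two (hG : Cfsg.IsMinSimpleOddOrder G) (p : ℕ) (M : Subgroup G)
    (hpM : p ∣ Nat.card M) : p ≠ 2 := by
  rintro rfl
  have h1 : 2 ∣ Nat.card G := hpM.trans (Subgroup.card_subgroup_dvd_card M)
  have h2 := hG.1
  rw [Nat.odd_iff] at h2
  omega

theorem normalizer_le_of_cyclic (p : ℕ) [hp : Fact p.Prime] (S X : Subgroup G) (hXS : X ≤ S)
    (hSc : IsCyclic S) : Subgroup.normalizer (S : Set G) ≤ Subgroup.normalizer (X : Set G) := by
  intro g hg
  apply Helper18.mem_normalizer_of_conjSub_le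
  have hle : Helper18.conjSub g X ≤ S := by
    have h1 : Helper18.conjSub g X ≤ Helper18.conjSub g S := Helper18.conjSub_mono hXS
    rwa [Helper18.conjSub_eq_of_mem_normalizer hg] at h1
  have hcard : Nat.card ((Helper18.conjSub g X).subgroupOf S) = Nat.card (X.subgroupOf S) := by
    rw [Helper5.card_subgroupOf_of_le hle, Helper5.card_subgroupOf_of_le hXS,
      Helper18.card_conjSub]
  have heq := Helper10.eq_of_card_eq_of_isCyclic _ _ hcard
  intro x hx
  have : (⟨x, hle hx⟩ : S) ∈ (Helper18.conjSub g X).subgroupOf S := Subgroup.mem_subgroupOf.mpr hx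
  rw [heq] at this
  exact Subgroup.mem_subgroupOf.mp this

theorem exists_central_in (p : ℕ) [hp : Fact p.Prime] (S Z : Subgroup G) (hS : IsPGroup p S)
    (hZS : Z ≤ S) (hSZ : S ≤ Subgroup.normalizer (Z : Set G)) (hZ1 : Z ≠ ⊥) :
    ∃ z ∈ Z, z ≠ 1 ∧ ∀ s ∈ S, s * z = z * s := by
  haveI : Group.IsNilpotent S := hS.isNilpotent
  haveI : (Z.subgroupOf S).Normal := by
    refine ⟨fun n hn g => ?_⟩
    rw [Subgroup.mem_subgroupOf] at hn ⊢
    have := (Subgroup.mem_normalizer_iff.mp (hSZ g.2) (n : G)).mp hn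
    simpa using this
  have hne : Z.subgroupOf S ≠ ⊥ := by
    intro h
    apply hZ1
    rw [eq_bot_iff]
    intro z hz
    have : (⟨z, hZS hz⟩ : S) ∈ Z.subgroupOf S := Subgroup.mem_subgroupOf.mpr hz
    rw [h, Subgroup.mem_bot] at this
    exact Subgroup.mem_bot.mpr (congrArg Subtype.val this)
  have := Helper1.normal_inf_center_ne_bot (Z.subgroupOf S) hne
  obtain ⟨z, hz, hz1⟩ : ∃ z ∈ Z.subgroupOf S ⊓ Subgroup.center S, z ≠ 1 := by
    by_contra h
    push Not at h
    apply this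
    rw [eq_bot_iff]
    intro x hx
    exact Subgroup.mem_bot.mpr (h x hx)
  refine ⟨z, Subgroup.mem_subgroupOf.mp hz.1, ?_, ?_⟩
  · intro h
    apply hz1
    exact Subtype.ext h
  · intro s hs
    have := (Subgroup.mem_center_iff.mp hz.2) ⟨s, hs⟩
    exact congrArg Subtype.val this

theorem ten_six (hG : Cfsg.IsMinSimpleOddOrder G)
    (M : Subgroup G) (hM : IsCoatom M) (p : ℕ) [hp : Fact p.Prime] (hpσ : p ∉ Cfsg.sigma M)
    (X : Subgroup G) (hX : Nat.card X = p)
    (hNX : Subgroup.normalizer (X : Set G) ≤ M) :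
    (Cfsg.PRankLE p 2 M ∧ ¬ Cfsg.PRankLE p 1 M) ∧ ¬ Cfsg.IsIdealPrime p G ∧
      ∃ A : Subgroup G, Cfsg.IsElementaryAbelian p A ∧ Nat.card A = p ^ 2 ∧ X ≤ A := by
  have hXM : X ≤ M := Subgroup.le_normalizer.trans hNX
  have hXp : IsPGroup p X := IsPGroup.of_card (n := 1) (by rw [hX, pow_one])
  obtain ⟨P, hXS⟩ := exists_sylow_map_ge p M X hXM hXp
  have hpM : p ∣ Nat.card M := by
    rw [← hX]; exact Subgroup.card_dvd_of_le hXM
  have hp2 : p ≠ 2 := prime_ne_two hG p M hpM
  have hNS : ¬ Subgroup.normalizer (((P : Subgroup M).map M.subtype : Subgroup G) : Set G) ≤ M :=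
    fun h => hpσ ⟨hp.out, hpM, P, h⟩
  have hSp : IsPGroup p ((P : Subgroup M).map M.subtype) := P.2.map _
  have hSM : (P : Subgroup M).map M.subtype ≤ M := by
    rintro _ ⟨y, _, rfl⟩
    exact y.2
  have hnc : ¬ IsCyclic ((P : Subgroup M).map M.subtype) := by
    intro hc
    exact hNS ((normalizer_le_of_cyclic p _ X hXS hc).trans hNX)
  obtain ⟨Z, hZS, hSZ, hZe, hZc⟩ := Helper11.BenderF.exists_normal_sq p hp2 _ hSp hnc
  have hr1 : ¬ Cfsg.PRankLE p 1 M := by
    intro h
    have := pRankLE_card_le h (hZS.trans hSM) hZe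
    rw [hZc] at this
    have : p ^ 1 < p ^ 2 := Nat.pow_lt_pow_right hp.out.one_lt (by norm_num)
    omega
  have hr2 : Cfsg.PRankLE p 2 M := by
    by_contra h
    exact hpσ (Helper11.BenderN.alpha_sub_sigma hG M hM p ⟨hp.out, h⟩)
  refine ⟨⟨hr2, hr1⟩, not_ideal_of_nonsigma hG M hM p hpσ hr1, ?_⟩
  by_cases hXZ : X ≤ Z
  · exact ⟨Z, hZe, hZc, hXZ⟩
  · have hZ1 : Z ≠ ⊥ := by
      intro h
      rw [h] at hZc
      have h1 : Nat.card (⊥ : Subgroup G) = 1 := Subgroup.card_bot
      rw [h1] at hZc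
      have : 1 < p ^ 2 := Nat.one_lt_pow (by norm_num) hp.out.one_lt
      omega
    obtain ⟨z, hzZ, hz1, hzc⟩ := exists_central_in p _ Z hSp hZS hSZ hZ1
    have hXe : Cfsg.IsElementaryAbelian p X := by
      haveI : Fact (Nat.card X).Prime := ⟨hX ▸ hp.out⟩
      have hcyc : IsCyclic X := isCyclic_of_prime_card rfl
      refine ⟨?_, ?_⟩
      · exact hcyc.isMulCommutative
      · intro a ha
        have := pow_card_eq_one' (G := X) (x := ⟨a, ha⟩)
        rw [hX] at this
        exact congrArg Subtype.val this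
    have hzC : z ∈ Subgroup.centralizer (X : Set G) := by
      rw [Subgroup.mem_centralizer_iff]
      intro x hx
      exact hzc x (hXS hx)
    have hA := Helper5.elemAb_adjoin hXe z hzC (hZe.2 z hzZ)
    have hXA : X ≤ Subgroup.closure ((X : Set G) ∪ {z}) := fun x hx =>
      Subgroup.subset_closure (Or.inl hx)
    have hzA : z ∈ Subgroup.closure ((X : Set G) ∪ {z}) :=
      Subgroup.subset_closure (Or.inr rfl)
    have hAM : Subgroup.closure ((X : Set G) ∪ {z}) ≤ M := by
      rw [Subgroup.closure_le]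
      rintro y (hy | hy)
      · exact hXM hy
      · rw [Set.mem_singleton_iff] at hy
        rw [hy]
        exact hSM (hZS hzZ)
    have hle : Nat.card (Subgroup.closure ((X : Set G) ∪ {z})) ≤ p ^ 2 := pRankLE_card_le hr2 hAM hA
    have hzX : z ∉ X := by
      intro hzX
      apply hXZ
      have hzp : Subgroup.zpowers z = X := by
        apply Subgroup.eq_of_le_of_card_ge
        · rw [Subgroup.zpowers_le]; exact hzX
        · rw [hX, Nat.card_zpowers]
          have h1 : orderOf z ∣ p := orderOf_dvd_of_pow_eq_one (hZe.2 z hzZ)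
          rcases (Nat.dvd_prime hp.out).mp h1 with h | h
          · exact absurd (orderOf_eq_one_iff.mp h) hz1
          · exact le_of_eq h.symm
      rw [← hzp, Subgroup.zpowers_le]
      exact hzZ
    have hlt : Nat.card X < Nat.card (Subgroup.closure ((X : Set G) ∪ {z})) := by
      by_contra h
      push Not at h
      have := Subgroup.eq_of_le_of_card_ge hXA h
      exact hzX (this ▸ hzA)
    obtain ⟨n, hn⟩ := IsPGroup.exists_card_eq (elemAb_isPGroup hA)
    refine ⟨_, hA, ?_, hXA⟩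
    rw [hn] at hle hlt ⊢
    rw [hX] at hlt
    have h1 : 1 < n := (Nat.pow_lt_pow_iff_right hp.out.one_lt).mp (by simpa using hlt)
    have h2 : n ≤ 2 := (Nat.pow_le_pow_iff_right hp.out.one_lt).mp hle
    have : n = 2 := by omega
    rw [this]

end Cfsg.Agent.Lib.Helper1.BG10
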