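import Mathlib
import Cfsg.Prelude.Def_OddOrderLocal
import Cfsg.Agent.Lib.Helper1.BG10.TenSix
import Cfsg.Agent.Lib.Helper18.BGTenA
import Cfsg.Agent.Lib.Helper18.BGTenB
import Cfsg.Agent.Lib.helper17.Subn2
import Cfsg.Agent.S1394
import Cfsg.Agent.S1395
import Cfsg.Agent.S1396

set_option autoImplicit false

namespace Cfsg.Agent.Lib.Helper1.BG10

open Cfsg Cfsg.Agent.Lib
open Cfsg.Agent.Lib.Helper11.BenderS
open scoped Pointwise

universe u

variable {G : Type u} [Group G] [Finite G]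

theorem exists_maxInv_ge (P : Subgroup G) (q : ℕ) (Y : Subgroup G)
    (hY : Y ∈ Cfsg.invSubgroups ⊤ P {q}) :
    ∃ Q ∈ Cfsg.maxInvSubgroups ⊤ P {q}, Y ≤ Q := by
  obtain ⟨Q, hYQ, hQ⟩ := Finite.exists_le_maximal
    (p := fun L : Subgroup G => L ∈ Cfsg.invSubgroups ⊤ P {q}) hY
  refine ⟨Q, ⟨hQ.1, ?_⟩, hYQ⟩
  intro R hR hQR
  exact le_antisymm (hQ.2 hR hQR) hQR

theorem bot_mem_invSubgroups (P : Subgroup G) (q : ℕ) :
    (⊥ : Subgroup G) ∈ Cfsg.invSubgroups ⊤ P {q} := by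
  refine ⟨bot_le, ?_, ?_⟩
  · intro r hr hdvd
    rw [Subgroup.card_bot] at hdvd
    exact absurd (Nat.dvd_one.mp hdvd) hr.one_lt.ne'
  · intro x _
    rw [Subgroup.mem_normalizer_iff]
    intro h
    simp [Subgroup.mem_bot]

theorem transHyp_of_max_sq (hG : Cfsg.IsMinSimpleOddOrder G)
    (h36 : ∀ M : Subgroup G, IsCoatom M → Thm36 ↥M) (p : ℕ) [hp : Fact p.Prime]
    (A : Subgroup G) (hAe : Cfsg.IsElementaryAbelian p A) (hA1 : A ≠ ⊥)
    (hmax : ∀ B : Subgroup G, Cfsg.IsElementaryAbelian p B → A ≤ B → B = A) :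
    Cfsg.TransitivityHypothesis A := by
  have hpG : p ∣ Nat.card G := by
    have hAp := elemAb_isPGroup hAe
    obtain ⟨n, hn⟩ := IsPGroup.iff_card.mp hAp
    have hn0 : n ≠ 0 := by
      rintro rfl
      rw [pow_zero] at hn
      exact hA1 ((Subgroup.card_eq_one).mp hn)
    have : p ∣ Nat.card A := by rw [hn]; exact dvd_pow_self p hn0
    exact this.trans (Subgroup.card_subgroup_dvd_card A)
  apply Cfsg.Agent.S1396.result hG p hpG A (elemAb_isPGroup hAe) hAe.1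
  left
  refine ⟨?_, ?_⟩
  · intro x hx
    constructor
    · intro hxp
      have hB := Helper5.elemAb_adjoin hAe x hx hxp
      have hle : A ≤ Subgroup.closure ((A : Set G) ∪ {x}) := fun a ha =>
        Subgroup.subset_closure (Or.inl ha)
      have := hmax _ hB hle
      rw [← this]
      exact Subgroup.subset_closure (Or.inr rfl)
    · intro hxA
      exact hAe.2 x hxA
  · intro H hH
    exact Helper18.BGTenA.proper_plength hG h36 p H hH

theorem ten_nine (hG : Cfsg.IsMinSimpleOddOrder G)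
    (h36 : ∀ M : Subgroup G, IsCoatom M → Thm36 ↥M) (p : ℕ) [hp : Fact p.Prime]
    (A : Subgroup G) (hAe : Cfsg.IsElementaryAbelian p A) (hAc : Nat.card A = p ^ 2)
    (hmax : ∀ B : Subgroup G, Cfsg.IsElementaryAbelian p B → A ≤ B → B = A)
    (q : ℕ) (hq : q.Prime) (hqp : q ≠ p)
    (hqC : q ∣ Nat.card (Subgroup.centralizer (A : Set G)))
    (Q : Subgroup G) (hQ : Q ∈ Cfsg.maxInvSubgroups ⊤ A {q}) :
    ∃ P : Sylow p G, A ≤ (P : Subgroup G) ∧
      (P : Subgroup G) ≤ Subgroup.normalizer (Q : Set G) ∧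
      (P : Subgroup G) ≤ ⁅Subgroup.normalizer (Q : Set G), Subgroup.normalizer (Q : Set G)⁆ := by
  have hA1 : A ≠ ⊥ := by
    rintro rfl
    rw [Subgroup.card_bot] at hAc
    have := hp.out.one_lt
    have h2 : 1 < p ^ 2 := Nat.one_lt_pow (by norm_num) this
    omega
  have hTH := transHyp_of_max_sq hG h36 p A hAe hA1 hmax
  have hqA : ¬ q ∣ Nat.card A := by
    rw [hAc]
    intro h
    have := hq.dvd_of_dvd_pow h
    exact hqp ((Nat.prime_dvd_prime_iff_eq hq hp.out).mp this)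
  have hAcomm : A ⊓ Subgroup.centralizer (A : Set G) = A := by
    apply inf_eq_left.mpr
    intro a ha
    rw [Subgroup.mem_centralizer_iff]
    intro b hb
    have := hAe.1
    exact setLike_mul_comm hb ha
  have hZ : ¬ Cfsg.RankLE 1 ↥(A ⊓ Subgroup.centralizer (A : Set G)) := by
    rw [hAcomm]
    exact not_rankLE_one_of_sq hAe hAc.ge
  have htr := Cfsg.Agent.S1394.result hG A hTH hZ q hq hqA hqC
  obtain ⟨P₀, hAP₀⟩ := (elemAb_isPGroup hAe).exists_le_sylow
  have hP₀1 : (P₀ : Subgroup G) ≠ ⊥ := by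
    intro h
    rw [h] at hAP₀
    exact hA1 (le_bot_iff.mp hAP₀)
  have hPtop : ∀ P : Sylow p G, (P : Subgroup G) ≠ ⊤ := by
    intro P h
    have hs : Group.IsSolvable G := by
      have : IsPGroup p G := by
        have := P.isPGroup'
        rw [h] at this
        exact this.of_equiv Subgroup.topEquiv
      have := this.isNilpotent
      infer_instance
    exact Helper11.MaxSubB.not_solvable_of_minSimple hG hs
  have hPπ : ∀ P : Sylow p G, ∀ r : ℕ, r.Prime → r ∣ Nat.card (P : Subgroup G) → r ∣ Nat.card A := by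
    intro P r hr hdvd
    obtain ⟨n, hn⟩ := IsPGroup.iff_card.mp P.isPGroup'
    rw [hn] at hdvd
    have := hr.dvd_of_dvd_pow hdvd
    have hrp : r = p := (Nat.prime_dvd_prime_iff_eq hr hp.out).mp this
    rw [hrp, hAc]
    exact dvd_pow_self p (by norm_num)
  have hsn : ∀ P : Sylow p G, (A.subgroupOf (P : Subgroup G)).IsSubnormal := by
    intro P
    have : Group.IsNilpotent ↥(P : Subgroup G) := P.isPGroup'.isNilpotent
    exact helper17.isSubnormal_of_isNilpotent _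
  obtain ⟨-, -, hc₀, -⟩ := Cfsg.Agent.S1395.result hG A hTH q hq hqA (P₀ : Subgroup G)
    (hPtop P₀) (hPπ P₀) hAP₀ (hsn P₀) htr
  obtain ⟨Q₀, hQ₀, -⟩ := exists_maxInv_ge (P₀ : Subgroup G) q ⊥ (bot_mem_invSubgroups _ q)
  obtain ⟨k, hk, hQk⟩ := htr Q₀ (hc₀ hQ₀) Q hQ
  have hkC : k ∈ Subgroup.centralizer (A : Set G) := by
    obtain ⟨y, _, rfl⟩ := hk
    exact y.2
  let P : Sylow p G := MulAut.conj k • P₀
  have hPmem : ∀ x, x ∈ (P : Subgroup G) ↔ k⁻¹ * x * k ∈ (P₀ : Subgroup G) := by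
    intro x
    rw [show (P : Subgroup G) = MulAut.conj k • (P₀ : Subgroup G) from rfl,
      Subgroup.mem_pointwise_smul_iff_inv_smul_mem]
    simp [MulAut.smul_def, mul_assoc]
  have hAP : A ≤ (P : Subgroup G) := by
    intro a ha
    rw [hPmem]
    have h1 : k * a = a * k := (Subgroup.mem_centralizer_iff.mp hkC a ha).symm
    have e : k⁻¹ * a * k = a := by
      rw [mul_assoc, ← h1]; group
    rw [e]
    exact hAP₀ ha
  have hPQ : (P : Subgroup G) ≤ Subgroup.normalizer (Q : Set G) := by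
    intro x hx
    have hx0 := (hPmem x).mp hx
    have hn0 : k⁻¹ * x * k ∈ Subgroup.normalizer (Q₀ : Set G) := hQ₀.1.2.2 hx0
    rw [Subgroup.mem_normalizer_iff] at hn0 ⊢
    intro y
    rw [hQk]
    simp only [Subgroup.mem_map, MulEquiv.coe_toMonoidHom, MulAut.conj_apply]
    constructor
    · rintro ⟨z, hz, rfl⟩
      refine ⟨(k⁻¹ * x * k) * z * (k⁻¹ * x * k)⁻¹, (hn0 z).mp hz, ?_⟩
      group
    · rintro ⟨z, hz, hzz⟩
      refine ⟨(k⁻¹ * x * k)⁻¹ * z * (k⁻¹ * x * k), ?_, ?_⟩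
      · have := (hn0 ((k⁻¹ * x * k)⁻¹ * z * (k⁻¹ * x * k))).mpr
        apply this
        have e : k⁻¹ * x * k * ((k⁻¹ * x * k)⁻¹ * z * (k⁻¹ * x * k)) * (k⁻¹ * x * k)⁻¹ = z := by
          group
        rw [e]
        exact hz
      · have e : y = x⁻¹ * (k * z * k⁻¹) * x := by
          rw [hzz]; group
        rw [e]
        group
  have hQP : Q ∈ Cfsg.maxInvSubgroups ⊤ (P : Subgroup G) {q} := by
    refine ⟨⟨le_top, hQ.1.2.1, hPQ⟩, ?_⟩
    intro R hR hQR
    exact hQ.2 R ⟨le_top, hR.2.1, hAP.trans hR.2.2⟩ hQR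
  obtain ⟨-, -, -, hd⟩ := Cfsg.Agent.S1395.result hG A hTH q hq hqA (P : Subgroup G)
    (hPtop P) (hPπ P) hAP (hsn P) htr
  refine ⟨P, hAP, hPQ, ?_⟩
  have h1 := (hd Q hQP).1
  have h2 := Helper18.BGTenB.sylow_le_normalizer_derived hG h36 p P
  exact (le_inf le_rfl h2).trans h1

end Cfsg.Agent.Lib.Helper1.BG10
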